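import Groth.Agent.RelReg52.Core
import Groth.Agent.FlatMor68.NoethModAlg

/-!
Upper semicontinuity of the projective dimension of the fibres of a flat module.
-/

set_option autoImplicit false
set_option linter.style.haveILetI false
set_option backward.isDefEq.respectTransparency.types false

universe u

open TensorProduct CategoryTheory

namespace RelPd52

variable {A B : Type u} [CommRing A] [CommRing B] [Algebra A B]

theorem mem_smul_of_exact {K F M : Type u} [AddCommGroup K] [AddCommGroup F] [AddCommGroup M]
    [Module A K] [Module B K] [IsScalarTower A B K] [Module A F] [Module B F] [IsScalarTower A B F]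
    [Module A M] [Module B M] [IsScalarTower A B M] [Module.Flat A M]
    {f : K →ₗ[B] F} {g : F →ₗ[B] M} (hf : Function.Injective f) (hg : Function.Surjective g)
    (h : Function.Exact f g) (p : Ideal A) {x : K}
    (hx : f x ∈ p.map (algebraMap A B) • (⊤ : Submodule B F)) :
    x ∈ p.map (algebraMap A B) • (⊤ : Submodule B K) := by
  rw [← Submodule.restrictScalars_mem A, Ideal.smul_restrictScalars, Submodule.restrictScalars_top] at hx ⊢
  have hinj := LinearMap.lTensor_injective_of_exact_of_flat (g.restrictScalars A) hg (f.restrictScalars A) hf h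
    (A ⧸ p)
  have hmk : ∀ {N : Type u} [AddCommGroup N] [Module A N] (y : N),
      (TensorProduct.quotTensorEquivQuotSMul N p) ((1 : A ⧸ p) ⊗ₜ y) = Submodule.Quotient.mk y := by
    intro N _ _ y
    rw [← map_one (Ideal.Quotient.mk p), TensorProduct.quotTensorEquivQuotSMul_mk_tmul, one_smul]
  have h1 : (f.restrictScalars A).lTensor (A ⧸ p) ((1 : A ⧸ p) ⊗ₜ x) = 0 := by
    apply (TensorProduct.quotTensorEquivQuotSMul F p).injective
    rw [LinearMap.lTensor_tmul, hmk, map_zero]
    exact (Submodule.Quotient.mk_eq_zero _).2 hx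
  rw [← Submodule.Quotient.mk_eq_zero, ← hmk, hinj (h1.trans (map_zero _).symm), map_zero]

theorem flat_of_exact {K F M : Type u} [AddCommGroup K] [AddCommGroup F] [AddCommGroup M]
    [Module A K] [Module A F] [Module A M] [Module.Flat A M] [Module.Flat A F]
    {f : K →ₗ[A] F} {g : F →ₗ[A] M} (hf : Function.Injective f) (hg : Function.Surjective g)
    (h : Function.Exact f g) : Module.Flat A K := by
  refine Module.Flat.iff_rTensor_injective'.mpr fun I => ?_
  have h1 : Function.Injective (f.lTensor I) := LinearMap.lTensor_injective_of_exact_of_flat g hg f hf h I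
  have h2 : Function.Injective (I.subtype.rTensor F) :=
    Module.Flat.rTensor_preserves_injective_linearMap _ I.injective_subtype
  have h3 : f.lTensor A ∘ₗ I.subtype.rTensor K = I.subtype.rTensor F ∘ₗ f.lTensor I := by
    rw [LinearMap.lTensor_comp_rTensor, LinearMap.rTensor_comp_lTensor]
  have h4 : Function.Injective (f.lTensor A ∘ₗ I.subtype.rTensor K) := by
    rw [h3]; exact h2.comp h1
  exact Function.Injective.of_comp (f := f.lTensor A) h4

theorem map_under_le_maximal (P : PrimeSpectrum B) :
    (P.asIdeal.under A).map (algebraMap A (Localization.AtPrime P.asIdeal)) ≤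
      IsLocalRing.maximalIdeal (Localization.AtPrime P.asIdeal) := by
  rw [Ideal.map_le_iff_le_comap]
  intro a ha
  rw [Ideal.mem_comap, IsScalarTower.algebraMap_apply A B (Localization.AtPrime P.asIdeal)]
  exact (IsLocalization.AtPrime.to_map_mem_maximal_iff _ P.asIdeal _).2 ha

/-- The local ring of the fibre. -/
abbrev fibreRing (A : Type u) [CommRing A] {B : Type u} [CommRing B] [Algebra A B] (P : PrimeSpectrum B) :
    Type u :=
  Localization.AtPrime P.asIdeal ⧸ (P.asIdeal.under A).map (algebraMap A (Localization.AtPrime P.asIdeal))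

theorem fibre_lTensor_injective {K F M : Type u} [AddCommGroup K] [AddCommGroup F] [AddCommGroup M]
    [Module A K] [Module B K] [IsScalarTower A B K] [Module A F] [Module B F] [IsScalarTower A B F]
    [Module A M] [Module B M] [IsScalarTower A B M] [Module.Flat A M]
    {f : K →ₗ[B] F} {g : F →ₗ[B] M} (hf : Function.Injective f) (hg : Function.Surjective g)
    (h : Function.Exact f g) (P : PrimeSpectrum B) : Function.Injective (f.lTensor (fibreRing A P)) := by
  let S := Localization.AtPrime P.asIdeal
  let J : Ideal B := (P.asIdeal.under A).map (algebraMap A B)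
  have hJ : J • (⊤ : Submodule B S) =
      ((P.asIdeal.under A).map (algebraMap A S)).restrictScalars B := by
    rw [Ideal.smul_top_eq_map, Ideal.map_map, ← IsScalarTower.algebraMap_eq]
  let e : S ⊗[B] (B ⧸ J) ≃ₗ[B] fibreRing A P :=
    TensorProduct.tensorQuotEquivQuotSMul (M := S) J ≪≫ₗ Submodule.quotEquivOfEq _ _ hJ ≪≫ₗ
      Submodule.Quotient.restrictScalarsEquiv B _
  have h1 : Function.Injective (f.lTensor (B ⧸ J)) := by
    refine (injective_iff_map_eq_zero _).2 fun z hz => ?_
    obtain ⟨x, rfl⟩ := TensorProduct.mk_surjective B K (B ⧸ J) Ideal.Quotient.mk_surjective z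
    have hmk : ∀ {N : Type u} [AddCommGroup N] [Module B N] (y : N),
        (TensorProduct.quotTensorEquivQuotSMul N J) ((1 : B ⧸ J) ⊗ₜ y) = Submodule.Quotient.mk y := by
      intro N _ _ y
      rw [← map_one (Ideal.Quotient.mk J), TensorProduct.quotTensorEquivQuotSMul_mk_tmul, one_smul]
    have hz' := congrArg (TensorProduct.quotTensorEquivQuotSMul F J) hz
    simp only [TensorProduct.mk_apply, LinearMap.lTensor_tmul, hmk, map_zero,
      Submodule.Quotient.mk_eq_zero] at hz'
    apply (TensorProduct.quotTensorEquivQuotSMul K J).injective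
    rw [TensorProduct.mk_apply, hmk, map_zero, Submodule.Quotient.mk_eq_zero]
    exact mem_smul_of_exact hf hg h _ hz'
  have h2 : Function.Injective (f.lTensor (S ⊗[B] (B ⧸ J))) := by
    rw [LinearMap.lTensor_tensor]
    simp only [LinearMap.coe_comp, LinearEquiv.coe_coe, EquivLike.comp_injective, EquivLike.injective_comp]
    exact Module.Flat.lTensor_preserves_injective_linearMap _ h1
  intro x y hxy
  obtain ⟨x, rfl⟩ := (LinearEquiv.rTensor K e).surjective x
  obtain ⟨y, rfl⟩ := (LinearEquiv.rTensor K e).surjective y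
  congr 1
  apply h2
  apply (LinearEquiv.rTensor F e).injective
  have hc : f.lTensor (fibreRing A P) ∘ₗ e.toLinearMap.rTensor K = e.toLinearMap.rTensor F ∘ₗ f.lTensor _ := by
    rw [LinearMap.lTensor_comp_rTensor, LinearMap.rTensor_comp_lTensor]
  exact ((LinearMap.congr_fun hc x).symm.trans hxy).trans (LinearMap.congr_fun hc y)

theorem free_fibre_iff {M : Type u} [AddCommGroup M] [Module A M] [Module B M] [IsScalarTower A B M]
    [Module.Flat A M] [Module.FinitePresentation B M] (P : PrimeSpectrum B) :
    Module.Free (fibreRing A P) (fibreRing A P ⊗[B] M) ↔ P ∈ Module.freeLocus B M := by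
  classical
  let S := Localization.AtPrime P.asIdeal
  let T := LocalizedModule P.asIdeal.primeCompl M
  let R := fibreRing A P
  haveI : IsScalarTower A S T := IsScalarTower.of_algebraMap_smul fun a x => by
    rw [IsScalarTower.algebraMap_apply A B S, algebraMap_smul, algebraMap_smul]
  haveI : Module.Flat A T := Groth.Agent.RelReg52.flat_localizedModule P.asIdeal.primeCompl
  set I : Ideal S := (P.asIdeal.under A).map (algebraMap A S) with hI
  have hIm : I ≤ IsLocalRing.maximalIdeal S := map_under_le_maximal P
  have hjac : I ≤ Ideal.jacobson (⊥ : Ideal S) := by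
    rw [IsLocalRing.jacobson_eq_maximalIdeal ⊥ bot_ne_top]; exact hIm
  haveI : Module.FinitePresentation S T := inferInstance
  let e : R ⊗[S] T ≃ₗ[R] R ⊗[B] M :=
    (LinearEquiv.baseChange S R _ _ (LocalizedModule.equivTensorProduct P.asIdeal.primeCompl M)) ≪≫ₗ
      TensorProduct.AlgebraTensorModule.cancelBaseChange B S R R M
  rw [Module.mem_freeLocus]
  constructor
  · intro hfree
    haveI : Module.Free R (R ⊗[S] T) := Module.Free.of_equiv e.symm
    haveI : Nontrivial R := Ideal.Quotient.nontrivial_iff.2 fun h0 =>
      (IsLocalRing.maximalIdeal.isMaximal S).ne_top (top_le_iff.1 (h0 ▸ hIm))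
    let b := Module.Free.chooseBasis R (R ⊗[S] T)
    choose x hx using fun i => TensorProduct.mk_surjective S T R Ideal.Quotient.mk_surjective (b i)
    let φ := Fintype.linearCombination S x
    have hπ : ∀ c : _ → S, (1 : R) ⊗ₜ[S] φ c = ∑ i, (Ideal.Quotient.mk I (c i) : R) • b i := fun c => by
      rw [Fintype.linearCombination_apply, TensorProduct.tmul_sum]
      refine Finset.sum_congr rfl fun i _ => ?_
      rw [TensorProduct.tmul_smul, ← hx i, ← algebraMap_smul R]
      rfl
    have hmk : ∀ {N : Type u} [AddCommGroup N] [Module S N] (y : N),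
        (TensorProduct.quotTensorEquivQuotSMul N I) ((1 : R) ⊗ₜ y) = Submodule.Quotient.mk y := by
      intro N _ _ y
      rw [← map_one (Ideal.Quotient.mk I), TensorProduct.quotTensorEquivQuotSMul_mk_tmul, one_smul]
    have hsurj : Function.Surjective φ := by
      rw [← LinearMap.range_eq_top]
      refine top_le_iff.1 (Submodule.le_of_le_smul_of_le_jacobson_bot Module.Finite.fg_top hjac ?_)
      intro y _
      choose s hs using fun i => Ideal.Quotient.mk_surjective (b.repr ((1 : R) ⊗ₜ[S] y) i)
      have h1 : (1 : R) ⊗ₜ[S] φ s = (1 : R) ⊗ₜ[S] y := by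
        rw [hπ]
        exact (Finset.sum_congr rfl fun i _ => congrArg (· • b i) (hs i)).trans (b.sum_repr _)
      have h2 := congrArg (TensorProduct.quotTensorEquivQuotSMul T I) h1
      rw [hmk, hmk] at h2
      exact Submodule.mem_sup.2 ⟨φ s, ⟨s, rfl⟩, y - φ s, (Submodule.Quotient.eq _).1 h2.symm, add_sub_cancel _ _⟩
    have hker : LinearMap.ker φ = ⊥ := by
      refine Submodule.eq_bot_of_le_smul_of_le_jacobson_bot I _ (Module.FinitePresentation.fg_ker φ hsurj)
        (fun c hc => ?_) hjac
      have h1 : (1 : R) ⊗ₜ[S] φ c = 0 := by rw [LinearMap.mem_ker.1 hc, TensorProduct.tmul_zero]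
      rw [hπ] at h1
      have h2 : ∀ i, c i ∈ I := fun i =>
        Ideal.Quotient.eq_zero_iff_mem.1 (Fintype.linearIndependent_iff.1 b.linearIndependent _ h1 i)
      have h3 : c ∈ I • (⊤ : Submodule S (Module.Free.ChooseBasisIndex R (R ⊗[S] T) → S)) := by
        rw [pi_eq_sum_univ c]
        exact sum_mem fun i _ => Submodule.smul_mem_smul (h2 i) Submodule.mem_top
      have h4 := mem_smul_of_exact (A := A) (B := S) (f := (LinearMap.ker φ).subtype) (g := φ)
        Subtype.val_injective hsurj (LinearMap.exact_subtype_ker_map φ) (P.asIdeal.under A) (x := ⟨c, hc⟩) h3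
      have h5 := Submodule.mem_map_of_mem (f := (LinearMap.ker φ).subtype) h4
      rw [Submodule.map_smul'', Submodule.map_subtype_top] at h5
      exact h5
    exact Module.Free.of_equiv (LinearEquiv.ofBijective φ ⟨LinearMap.ker_eq_bot.1 hker, hsurj⟩)
  · intro hfree
    exact Module.Free.of_equiv e

theorem exists_presentation [Algebra.FinitePresentation A B] [Module.Flat A B] (M : Type u) [AddCommGroup M]
    [Module B M] [Module A M] [IsScalarTower A B M] [Module.FinitePresentation B M] [Module.Flat A M] :
    ∃ (F K : Type u) (_ : AddCommGroup F) (_ : Module B F) (_ : Module A F) (_ : IsScalarTower A B F)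
      (_ : Module.Free B F) (_ : Module.Finite B F)
      (_ : AddCommGroup K) (_ : Module B K) (_ : Module A K) (_ : IsScalarTower A B K)
      (_ : Module.FinitePresentation B K) (_ : Module.Flat A K) (f : K →ₗ[B] F) (g : F →ₗ[B] M),
      Function.Injective f ∧ Function.Surjective g ∧ Function.Exact f g := by
  obtain ⟨A₀, B₀, M₀, _, _, _, _, _, _, _, _, _, e, eM, he, hA₀, hB₀, hM₀, hfl⟩ :=
    Groth.Agent.FlatMor68.NoethModAlg.exists_flat_module_model A B M
  haveI : Module.Flat A₀ M₀ := hfl inferInstance
  haveI : IsNoetherianRing A₀ := Algebra.FiniteType.isNoetherianRing ℤ A₀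
  haveI : IsNoetherianRing B₀ := Algebra.FiniteType.isNoetherianRing A₀ B₀
  letI : Algebra A₀ B := ((algebraMap A B).comp (algebraMap A₀ A)).toAlgebra
  haveI : IsScalarTower A₀ A B := IsScalarTower.of_algebraMap_eq fun _ => rfl
  haveI : IsScalarTower A₀ B₀ B := IsScalarTower.of_algebraMap_eq fun a => by
    rw [← he, show (1 : A) ⊗ₜ[A₀] algebraMap A₀ B₀ a = algebraMap A₀ A a ⊗ₜ[A₀] (1 : B₀) by
      rw [Algebra.algebraMap_eq_smul_one, Algebra.algebraMap_eq_smul_one, TensorProduct.smul_tmul]]
    exact (e.commutes (algebraMap A₀ A a)).symm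
  haveI : Algebra.IsPushout A₀ A B₀ B := by
    letI : Algebra B₀ (A ⊗[A₀] B₀) := Algebra.TensorProduct.rightAlgebra
    haveI : IsScalarTower A₀ B₀ (A ⊗[A₀] B₀) := Algebra.TensorProduct.right_isScalarTower
    haveI : Algebra.IsPushout A₀ A B₀ (A ⊗[A₀] B₀) := TensorProduct.isPushout
    exact Algebra.IsPushout.of_equiv (R := A₀) (R' := A) (S := B₀) (S' := A ⊗[A₀] B₀) e
      (RingHom.ext fun b => he b)
  obtain ⟨n, π, hπ⟩ := Module.Finite.exists_fin' B₀ M₀
  let ι := (LinearMap.ker π).subtype
  haveI : Module.FinitePresentation B₀ (LinearMap.ker π) := Module.finitePresentation_of_finite B₀ _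
  let f : B ⊗[B₀] (LinearMap.ker π) →ₗ[B] B ⊗[B₀] (Fin n → B₀) := ι.baseChange B
  let g : B ⊗[B₀] (Fin n → B₀) →ₗ[B] M := eM.toLinearMap ∘ₗ π.baseChange B
  have hg : Function.Surjective g :=
    eM.surjective.comp (LinearMap.lTensor_surjective B hπ)
  have hex : Function.Exact f g := by
    intro y
    rw [show g y = eM (π.lTensor B y) from rfl, LinearEquiv.map_eq_zero_iff]
    exact lTensor_exact B (LinearMap.exact_subtype_ker_map π) hπ y
  have hf : Function.Injective f := by
    have hinj := LinearMap.lTensor_injective_of_exact_of_flat (π.restrictScalars A₀) hπ (ι.restrictScalars A₀)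
      Subtype.val_injective (LinearMap.exact_subtype_ker_map π) A
    let c₁ := Algebra.IsPushout.cancelBaseChange A₀ A B₀ B (LinearMap.ker π)
    let c₂ := Algebra.IsPushout.cancelBaseChange A₀ A B₀ B (Fin n → B₀)
    have hc : ∀ z, f (c₁.symm z) = c₂.symm ((ι.restrictScalars A₀).lTensor A z) := by
      intro z
      induction z using TensorProduct.induction_on with
      | zero => simp
      | add a b ha hb => simp only [map_add, ha, hb]
      | tmul a x =>
        simp only [c₁, c₂, LinearMap.lTensor_tmul, Algebra.IsPushout.cancelBaseChange_symm_tmul, f,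
          LinearMap.baseChange_tmul]
        rfl
    intro x y hxy
    obtain ⟨x, rfl⟩ := c₁.symm.surjective x
    obtain ⟨y, rfl⟩ := c₁.symm.surjective y
    rw [hc, hc] at hxy
    rw [hinj (c₂.symm.injective hxy)]
  haveI : Module.Flat A (B ⊗[B₀] (Fin n → B₀)) := Module.Flat.trans A B _
  refine ⟨B ⊗[B₀] (Fin n → B₀), B ⊗[B₀] (LinearMap.ker π), inferInstance, inferInstance, inferInstance,
    inferInstance, inferInstance, inferInstance, inferInstance, inferInstance, inferInstance, inferInstance,
    inferInstance, ?_, f, g, hf, hg, hex⟩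
  exact flat_of_exact (f := f.restrictScalars A) (g := g.restrictScalars A) hf hg hex

/-- Projective dimension of the fibre. -/
noncomputable abbrev fibrePd (A : Type u) [CommRing A] {B : Type u} [CommRing B] [Algebra A B] (M : Type u)
    [AddCommGroup M] [Module B M] (P : PrimeSpectrum B) : WithBot ℕ∞ :=
  projectiveDimension (ModuleCat.of (fibreRing A P) (fibreRing A P ⊗[B] M))

theorem isOpen_fibrePd_lt_zero {M : Type u} [AddCommGroup M] [Module B M] [Module.Finite B M] :
    IsOpen {P : PrimeSpectrum B | fibrePd A M P < ((0 : ℕ) : WithBot ℕ∞)} := by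
  have h : {P : PrimeSpectrum B | fibrePd A M P < ((0 : ℕ) : WithBot ℕ∞)} = (Module.support B M)ᶜ := by
    ext P
    let S := Localization.AtPrime P.asIdeal
    let T := LocalizedModule P.asIdeal.primeCompl M
    let I : Ideal S := (P.asIdeal.under A).map (algebraMap A S)
    let e : fibreRing A P ⊗[S] T ≃ₗ[fibreRing A P] fibreRing A P ⊗[B] M :=
      (LinearEquiv.baseChange S _ _ _ (LocalizedModule.equivTensorProduct P.asIdeal.primeCompl M)) ≪≫ₗ
        TensorProduct.AlgebraTensorModule.cancelBaseChange B S _ _ M
    rw [Set.mem_ofPred_eq, projectiveDimension_lt_iff, hasProjectiveDimensionLT_zero_iff_isZero,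
      ModuleCat.isZero_iff_subsingleton, Set.mem_compl_iff, Module.notMem_support_iff,
      ← e.toEquiv.subsingleton_congr, (TensorProduct.quotTensorEquivQuotSMul T I).toEquiv.subsingleton_congr,
      Submodule.Quotient.subsingleton_iff]
    constructor
    · intro h
      have hbot := Submodule.eq_bot_of_le_smul_of_le_jacobson_bot I (⊤ : Submodule S T) Module.Finite.fg_top
        h.ge (by
          rw [IsLocalRing.jacobson_eq_maximalIdeal ⊥ bot_ne_top]
          exact map_under_le_maximal P)
      exact (Submodule.subsingleton_iff S).1 (subsingleton_of_bot_eq_top hbot.symm)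
    · intro h
      exact Subsingleton.elim _ _
  rw [h, isOpen_compl_iff, Module.support_eq_zeroLocus]
  exact PrimeSpectrum.isClosed_zeroLocus _

theorem isOpen_fibrePd_lt [Algebra.FinitePresentation A B] [Module.Flat A B] :
    ∀ (c : ℕ) (M : Type u) [AddCommGroup M] [Module B M] [Module A M] [IsScalarTower A B M]
      [Module.FinitePresentation B M] [Module.Flat A M],
      IsOpen {P : PrimeSpectrum B | fibrePd A M P < (c : WithBot ℕ∞)}
  | 0, M, _, _, _, _, _, _ => isOpen_fibrePd_lt_zero
  | 1, M, _, _, _, _, _, _ => by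
    convert Module.isOpen_freeLocus (R := B) (M := M) using 1
    ext P
    rw [Set.mem_ofPred_eq, projectiveDimension_lt_iff, ← projective_iff_hasProjectiveDimensionLT_one,
      ← IsProjective.iff_projective, ← free_fibre_iff (A := A)]
    haveI : IsLocalRing (fibreRing A P) := by
      haveI : Nontrivial (fibreRing A P) := Ideal.Quotient.nontrivial_iff.2 fun h0 => by
        have hle := map_under_le_maximal (A := A) P
        exact (IsLocalRing.maximalIdeal.isMaximal _).ne_top (top_le_iff.1 (h0 ▸ hle))
      exact IsLocalRing.of_surjective' (Ideal.Quotient.mk _) Ideal.Quotient.mk_surjective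
    exact ⟨fun _ => Module.free_of_flat_of_isLocalRing, fun _ => inferInstance⟩
  | c + 2, M, _, _, _, _, _, _ => by
    obtain ⟨F, K, _, _, _, _, _, _, _, _, _, _, _, _, f, g, hf, hg, hex⟩ := exists_presentation (A := A) (B := B) M
    convert isOpen_fibrePd_lt (c + 1) K using 1
    ext P
    rw [Set.mem_ofPred_eq, Set.mem_ofPred_eq, projectiveDimension_lt_iff, projectiveDimension_lt_iff]
    have hcomp : ModuleCat.ofHom (f.baseChange (fibreRing A P)) ≫ ModuleCat.ofHom (g.baseChange (fibreRing A P)) = 0 := by
      rw [← ModuleCat.ofHom_comp, ← LinearMap.baseChange_comp, hex.linearMap_comp_eq_zero, LinearMap.baseChange_zero]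
      rfl
    let S := ShortComplex.mk _ _ hcomp
    have hS : S.ShortExact :=
      { exact := (ShortComplex.ShortExact.moduleCat_exact_iff_function_exact _).2 (lTensor_exact _ hex hg)
        mono_f := (ModuleCat.mono_iff_injective _).2 (fibre_lTensor_injective hf hg hex P)
        epi_g := (ModuleCat.epi_iff_surjective _).2 (LinearMap.lTensor_surjective _ hg) }
    exact hS.hasProjectiveDimensionLT_X₃_iff c ((IsProjective.iff_projective _).1 inferInstance)

theorem upperSemicontinuous [Algebra.FinitePresentation A B] [Module.Flat A B] (M : Type u) [AddCommGroup M]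
    [Module B M] [Module A M] [IsScalarTower A B M] [Module.FinitePresentation B M] [Module.Flat A M] :
    UpperSemicontinuous fun P : PrimeSpectrum B => fibrePd A M P := by
  rw [upperSemicontinuous_iff_isOpen_preimage]
  intro y
  induction y with
  | bot => simp
  | coe y =>
    induction y with
    | top =>
      have h : (fun P : PrimeSpectrum B => fibrePd A M P) ⁻¹' Set.Iio ((⊤ : ℕ∞) : WithBot ℕ∞) =
          ⋃ n : ℕ, {P | fibrePd A M P < (n : WithBot ℕ∞)} := by
        ext P
        simp only [Set.mem_preimage, Set.mem_Iio, Set.mem_iUnion, Set.mem_ofPred_eq]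
        constructor
        · intro h
          induction hP : fibrePd A M P with
          | bot => exact ⟨0, WithBot.bot_lt_coe _⟩
          | coe m =>
            rw [hP, WithBot.coe_lt_coe] at h
            obtain ⟨j, rfl⟩ := WithTop.ne_top_iff_exists.1 h.ne
            exact ⟨j + 1, WithBot.coe_lt_coe.2 (WithTop.coe_lt_coe.2 (Nat.lt_succ_self j))⟩
        · rintro ⟨n, hn⟩
          exact hn.trans (WithBot.coe_lt_coe.2 (WithTop.coe_lt_top _))
      rw [h]
      exact isOpen_iUnion fun n => isOpen_fibrePd_lt n M
    | coe n => exact isOpen_fibrePd_lt n M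

end RelPd52
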